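import Mathlib.AlgebraicGeometry.Morphisms.Immersion
import Mathlib.AlgebraicGeometry.Morphisms.Separated
import Mathlib.AlgebraicGeometry.Morphisms.FiniteType
import Mathlib.AlgebraicGeometry.Noetherian
import Mathlib.AlgebraicGeometry.Morphisms.IsIso
import Mathlib.RingTheory.Localization.Away.Basic
import Groth.Prelude.Def_SchLoc

/-!
Local immersions and local isomorphisms.
-/

universe u

open AlgebraicGeometry CategoryTheory Limits

namespace Groth.Agent.SchLoc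

variable {X Y : Scheme.{u}}

lemma respectsRight_isImmersion :
    MorphismProperty.RespectsRight (@IsImmersion.{u}) @IsOpenImmersion where
  postcomp i hi f hf := by
    have : IsOpenImmersion i := hi
    have : IsImmersion f := hf
    infer_instance

lemma isLocalImmersionAt_iff (f : X ⟶ Y) (x : X) :
    _root_.SchLoc.IsLocalImmersionAt f x ↔ ∃ U : X.Opens, x ∈ U ∧ IsImmersion (U.ι ≫ f) := by
  constructor
  · rintro ⟨U, V, h, hx, hU⟩
    exact ⟨U, hx, Scheme.Hom.resLE_comp_ι f (e := h) ▸ inferInstance⟩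
  · rintro ⟨U, hx, hU⟩
    have h : U ≤ f ⁻¹ᵁ (U.ι ≫ f).coborderRange := fun y hy ↦ by
      have : (U.ι ≫ f) ⟨y, hy⟩ ∈ (U.ι ≫ f).coborderRange :=
        subset_coborder (Set.mem_range_self _)
      exact this
    refine ⟨U, _, h, hx, ?_⟩
    have : f.resLE (U.ι ≫ f).coborderRange U h = (U.ι ≫ f).liftCoborder := by
      rw [← cancel_mono (U.ι ≫ f).coborderRange.ι, Scheme.Hom.resLE_comp_ι,
        Scheme.Hom.liftCoborder_ι]
    rw [this]
    infer_instance

theorem isLocalImmersion_comp {Z : Scheme.{u}} (f : X ⟶ Y) (g : Y ⟶ Z)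
    (hf : _root_.SchLoc.IsLocalImmersion f) (hg : _root_.SchLoc.IsLocalImmersion g) :
    _root_.SchLoc.IsLocalImmersion (f ≫ g) := by
  intro x
  rw [isLocalImmersionAt_iff]
  obtain ⟨U, hx, hU⟩ := (isLocalImmersionAt_iff f x).mp (hf x)
  obtain ⟨V, hy, hV⟩ := (isLocalImmersionAt_iff g _).mp (hg (f x))
  refine ⟨U ⊓ f ⁻¹ᵁ V, ⟨hx, hy⟩, ?_⟩
  let j := f.resLE V (U ⊓ f ⁻¹ᵁ V) inf_le_right
  have hj : IsImmersion j := by
    have : IsImmersion (j ≫ V.ι) := by
      rw [Scheme.Hom.resLE_comp_ι, ← X.homOfLE_ι (inf_le_left : U ⊓ f ⁻¹ᵁ V ≤ U), Category.assoc]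
      infer_instance
    exact IsImmersion.of_comp j V.ι
  have : (U ⊓ f ⁻¹ᵁ V).ι ≫ f ≫ g = j ≫ V.ι ≫ g := by
    rw [Scheme.Hom.resLE_comp_ι_assoc]
  rw [this]
  infer_instance

theorem isLocalImmersion_of_comp {Z : Scheme.{u}} (f : X ⟶ Y) (g : Y ⟶ Z)
    (h : _root_.SchLoc.IsLocalImmersion (f ≫ g)) : _root_.SchLoc.IsLocalImmersion f := by
  intro x
  obtain ⟨U, hx, hU⟩ := (isLocalImmersionAt_iff _ x).mp (h x)
  have : IsImmersion ((U.ι ≫ f) ≫ g) := by rwa [Category.assoc]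
  exact (isLocalImmersionAt_iff f x).mpr ⟨U, hx, IsImmersion.of_comp (U.ι ≫ f) g⟩

theorem isLocalImmersion_baseChange {S S' : Scheme.{u}} (f : X ⟶ S) (g : S' ⟶ S)
    (hf : _root_.SchLoc.IsLocalImmersion f) :
    _root_.SchLoc.IsLocalImmersion (pullback.snd f g) := by
  intro z
  obtain ⟨U, hx, hU⟩ := (isLocalImmersionAt_iff f _).mp (hf (pullback.fst f g z))
  refine (isLocalImmersionAt_iff _ z).mpr ⟨(pullback.fst f g) ⁻¹ᵁ U, hx, ?_⟩
  exact MorphismProperty.of_isPullback (P := @IsImmersion)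
    (((isPullback_morphismRestrict (pullback.fst f g) U).flip.paste_horiz
      (IsPullback.of_hasPullback f g).flip).flip) hU

/-- An open subscheme of an irreducible scheme closed in a bigger open is everything. -/
lemma eq_of_isClosed_range {Z : Scheme.{u}} [IrreducibleSpace Z] {U W : Z.Opens} (hUW : U ≤ W)
    (hne : (U : Set Z).Nonempty) (h : IsClosed (Set.range (Z.homOfLE hUW))) : U = W := by
  refine le_antisymm hUW fun w hw ↦ ?_
  have hr : Set.range (Z.homOfLE hUW) = Subtype.val ⁻¹' (U : Set Z) := by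
    ext ⟨p, hp⟩
    constructor
    · rintro ⟨q, hq⟩
      have : p = q.1 := (congrArg Subtype.val hq).symm.trans congr($(Z.homOfLE_ι hUW) q)
      exact this ▸ q.2
    · intro hpU
      exact ⟨⟨p, hpU⟩, Subtype.ext congr($(Z.homOfLE_ι hUW) ⟨p, hpU⟩)⟩
  rw [hr] at h
  obtain ⟨C, hC, hC'⟩ := isClosed_induced_iff.mp h
  have hsub : (W : Set Z) ⊆ C := by
    intro p hp
    have hd : Dense (U : Set Z) := U.isOpen.dense hne
    have : (U : Set Z) ⊆ C := fun q hq ↦ (Set.ext_iff.mp hC' ⟨q, hUW hq⟩).mpr hq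
    exact (closure_minimal this hC) (hd p)
  exact (Set.ext_iff.mp hC' ⟨w, hw⟩).mp (hsub hw)

lemma preimage_eq_of_isClosed {V : Y.Opens} {U : X.Opens} (f : X ⟶ Y) [IrreducibleSpace X]
    [IsSeparated f] (h : U ≤ f ⁻¹ᵁ V) (hne : (U : Set X).Nonempty)
    [IsClosedImmersion (f.resLE V U h)] : U = f ⁻¹ᵁ V := by
  have he : f.resLE V U h = X.homOfLE h ≫ (f ∣_ V) := by
    rw [← Scheme.Hom.resLE_eq_morphismRestrict, Scheme.Hom.map_resLE]
  have : IsSeparated (f ∣_ V) := IsZariskiLocalAtTarget.restrict ‹IsSeparated f› V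
  have : IsClosedImmersion (X.homOfLE h ≫ (f ∣_ V)) := he ▸ inferInstance
  have := IsClosedImmersion.of_comp (X.homOfLE h) (f ∣_ V)
  exact eq_of_isClosed_range h hne (X.homOfLE h).isClosedEmbedding.isClosed_range

theorem isImmersion_of_isLocalImmersion (f : X ⟶ Y) [IrreducibleSpace X]
    (hf : _root_.SchLoc.IsLocalImmersion f) [IsSeparated f] : IsImmersion f := by
  choose U V h hx hU using hf
  have := respectsRight_isImmersion.{u}
  refine IsZariskiLocalAtTarget.of_range_subset_iSup V ?_ fun x ↦ ?_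
  · rintro _ ⟨x, rfl⟩
    exact TopologicalSpace.Opens.mem_iSup.mpr ⟨x, h x (hx x)⟩
  · have := hU x
    have he := preimage_eq_of_isClosed f (h x) ⟨x, hx x⟩
    rw [← Scheme.Hom.resLE_eq_morphismRestrict]
    exact (Scheme.Hom.resLE_congr f (h x) rfl he @IsImmersion).mp inferInstance

theorem isOpenImmersion_of_isLocalIso (f : X ⟶ Y) [IrreducibleSpace X]
    (hf : _root_.SchLoc.IsLocalIso f) [IsSeparated f] : IsOpenImmersion f := by
  choose U hx hU using hf
  let V : X → Y.Opens := fun x ↦ ((U x).ι ≫ f).opensRange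
  have h : ∀ x, U x ≤ f ⁻¹ᵁ V x := fun x y hy ↦ ⟨⟨y, hy⟩, rfl⟩
  refine IsZariskiLocalAtTarget.of_range_subset_iSup V ?_ fun x ↦ ?_
  · rintro _ ⟨x, rfl⟩
    exact TopologicalSpace.Opens.mem_iSup.mpr ⟨x, h x (hx x)⟩
  · have : IsIso (f.resLE (V x) (U x) (h x)) := by
      have e : f.resLE (V x) (U x) (h x) = ((U x).ι ≫ f).isoOpensRange.hom := by
        rw [← cancel_mono (V x).ι, Scheme.Hom.resLE_comp_ι]
        exact (Scheme.Hom.isoOpensRange_hom_ι _).symm
      rw [e]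
      infer_instance
    have he := preimage_eq_of_isClosed f (h x) ⟨x, hx x⟩
    rw [← Scheme.Hom.resLE_eq_morphismRestrict]
    exact (Scheme.Hom.resLE_congr f (h x) rfl he @IsOpenImmersion).mp inferInstance

theorem isImmersion_of_injective (f : X ⟶ Y) [IrreducibleSpace X] [IsDominant f]
    (hf : _root_.SchLoc.IsLocalImmersion f) (hi : Function.Injective f.base) :
    IsImmersion f ∧ IsOpen (Set.range f.base) := by
  choose U V h hx hU using hf
  have hV : ∀ x, ∀ y ∈ V x, ∃ p ∈ U x, f p = y := by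
    intro x y hy
    have := hU x
    have hgx : genericPoint X ∈ U x :=
      ((genericPoint_spec X).specializes (Set.mem_univ x)).mem_open (U x).isOpen (hx x)
    have hcl : IsClosed (Set.range (f.resLE (V x) (U x) (h x))) :=
      (f.resLE (V x) (U x) (h x)).isClosedEmbedding.isClosed_range
    have hspec : f (genericPoint X) ⤳ y := by
      rw [specializes_iff_mem_closure]
      have h1 : closure {f (genericPoint X)} = closure (Set.range f) := by
        rw [← Set.image_univ, ← (genericPoint_spec X).def, ← Set.image_singleton,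
          closure_image_closure f.continuous]
      rw [h1, f.denseRange.closure_range]
      trivial
    have hm : (⟨y, hy⟩ : V x) ∈ Set.range (f.resLE (V x) (U x) (h x)) := by
      refine ((Topology.IsInducing.specializes_iff (x := (⟨f (genericPoint X), h x hgx⟩ : (V x : Scheme.{u})))
        (y := ⟨y, hy⟩) (V x).ι.isEmbedding.isInducing).mp hspec).mem_closed hcl
        ⟨⟨_, hgx⟩, Subtype.ext ?_⟩
      exact congr($(Scheme.Hom.resLE_comp_ι f (e := h x)) ⟨genericPoint X, hgx⟩)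
    obtain ⟨⟨p, hp⟩, hpy⟩ := hm
    exact ⟨p, hp, (congr($(Scheme.Hom.resLE_comp_ι f (e := h x)) ⟨p, hp⟩)).symm.trans
      (congrArg Subtype.val hpy)⟩
  have := respectsRight_isImmersion.{u}
  refine ⟨IsZariskiLocalAtTarget.of_range_subset_iSup V ?_ fun x ↦ ?_, ?_⟩
  · rintro _ ⟨x, rfl⟩
    exact TopologicalSpace.Opens.mem_iSup.mpr ⟨x, h x (hx x)⟩
  · have := hU x
    have he : U x = f ⁻¹ᵁ V x := le_antisymm (h x) fun p hp ↦ by
      obtain ⟨q, hq, hqp⟩ := hV x (f p) hp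
      exact hi hqp ▸ hq
    rw [← Scheme.Hom.resLE_eq_morphismRestrict]
    exact (Scheme.Hom.resLE_congr f (h x) rfl he @IsImmersion).mp inferInstance
  · have : Set.range f.base = ⋃ x, (V x : Set Y) := by
      apply Set.Subset.antisymm
      · rintro _ ⟨x, rfl⟩; exact Set.mem_iUnion.mpr ⟨x, h x (hx x)⟩
      · intro y hy
        obtain ⟨x, hyx⟩ := Set.mem_iUnion.mp hy
        obtain ⟨p, -, hp⟩ := hV x y hyx
        exact ⟨p, hp⟩
    rw [this]
    exact isOpen_iUnion fun x ↦ (V x).isOpen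

section algebra

variable {A B : Type u} [CommRing A] [CommRing B]

/-- If the stalk map at a prime is surjective then some map of principal localisations is. -/
lemma exists_surjective_away (φ : A →+* B) (hφ : φ.FiniteType) (p : Ideal B) [p.IsPrime]
    (h : ∀ a : B, ∃ b s, φ s ∉ p ∧ ∃ t, t ∉ p ∧ t * (φ s * a - φ b) = 0) :
    ∃ (s : A) (t : B), φ s ∉ p ∧ t ∉ p ∧ φ s ∣ t ∧
      ∀ (b : B) (n : ℕ), ∃ (a : A) (m k : ℕ), t ^ k * (b * φ s ^ m - φ a * t ^ n) = 0 := by
  classical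
  let := φ.toAlgebra
  obtain ⟨G, hG⟩ := (hφ : Algebra.FiniteType A B).out
  choose b s hs t ht he using h
  let s0 := ∏ g ∈ G, s g
  let t0 := ∏ g ∈ G, t g
  have hs0 : φ s0 ∉ p := fun hm ↦ by
    rw [map_prod, Ideal.IsPrime.prod_mem_iff] at hm
    obtain ⟨g, -, hg⟩ := hm
    exact hs g hg
  have ht0 : t0 ∉ p := fun hm ↦ by
    rw [Ideal.IsPrime.prod_mem_iff] at hm
    obtain ⟨g, -, hg⟩ := hm
    exact ht g hg
  have hall : ∀ a : B, ∃ (n : ℕ) (c : A), t0 * (a * φ s0 ^ n - φ c) = 0 := by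
    intro a
    have ha : a ∈ Algebra.adjoin A (G : Set B) := hG ▸ Algebra.mem_top
    induction ha using Algebra.adjoin_induction with
    | mem g hg =>
      obtain ⟨u, hu⟩ : s g ∣ s0 := Finset.dvd_prod_of_mem s hg
      obtain ⟨v, hv⟩ : t g ∣ t0 := Finset.dvd_prod_of_mem t hg
      refine ⟨1, b g * u, ?_⟩
      rw [hv, hu, map_mul, map_mul]
      linear_combination (v * φ u) * he g
    | algebraMap r => exact ⟨0, r, by simp [RingHom.algebraMap_toAlgebra]⟩
    | add x y _ _ hx hy =>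
      obtain ⟨n, c, hc⟩ := hx
      obtain ⟨m, d, hd⟩ := hy
      refine ⟨n + m, c * s0 ^ m + d * s0 ^ n, ?_⟩
      simp only [map_add, map_mul, map_pow, pow_add]
      linear_combination φ s0 ^ m * hc + φ s0 ^ n * hd
    | mul x y _ _ hx hy =>
      obtain ⟨n, c, hc⟩ := hx
      obtain ⟨m, d, hd⟩ := hy
      refine ⟨n + m, c * d, ?_⟩
      simp only [map_mul, pow_add]
      linear_combination (y * φ s0 ^ m) * hc + φ c * hd
  obtain ⟨N, c, hc⟩ := hall t0
  have hcp : φ c ∉ p := fun hm ↦ by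
    have h1 : t0 * (t0 * φ s0 ^ N) ∈ p := by
      have : t0 * (t0 * φ s0 ^ N) = t0 * φ c := by linear_combination hc
      rw [this]; exact p.mul_mem_left _ hm
    rcases (‹p.IsPrime›.mem_or_mem h1) with h | h
    · exact ht0 h
    · rcases (‹p.IsPrime›.mem_or_mem h) with h | h
      · exact ht0 h
      · exact hs0 (‹p.IsPrime›.mem_of_pow_mem N h)
  have hsp : φ (s0 * c) ∉ p := by
    rw [map_mul]; exact fun hm ↦ (‹p.IsPrime›.mem_or_mem hm).elim hs0 hcp
  refine ⟨s0 * c, t0 * φ (s0 * c), hsp,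
    fun hm ↦ (‹p.IsPrime›.mem_or_mem hm).elim ht0 hsp, dvd_mul_left _ _, fun a n ↦ ?_⟩
  obtain ⟨m, d, hd⟩ := hall a
  refine ⟨d * s0 ^ (N * n + n) * c ^ m, m + n + n, 1, ?_⟩
  simp only [map_mul, map_pow, pow_one]
  have key : t0 * (t0 ^ n * φ s0 ^ (N * n) - φ c ^ n) = 0 := by
    have hdvd : (t0 * φ s0 ^ N - φ c) ∣ ((t0 * φ s0 ^ N) ^ n - φ c ^ n) :=
      sub_dvd_pow_sub_pow _ _ n
    obtain ⟨e, he'⟩ := hdvd
    rw [mul_pow, ← pow_mul] at he'
    linear_combination t0 * he' + e * hc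
  linear_combination (φ c ^ (m + n + n) * φ s0 ^ (n + n) * (φ s0 * φ c)) * hd -
    (φ d * φ c ^ (m + n) * φ s0 ^ (n + n) * (φ s0 * φ c)) * key

/-- If moreover the stalk map is injective and the base is noetherian one gets bijectivity. -/
lemma exists_bijective_away [IsNoetherianRing A] (φ : A →+* B) (hφ : φ.FiniteType) (p : Ideal B)
    [p.IsPrime]
    (h : ∀ a : B, ∃ b s, φ s ∉ p ∧ ∃ t, t ∉ p ∧ t * (φ s * a - φ b) = 0)
    (hinj : ∀ a : A, (∃ t ∉ p, t * φ a = 0) → ∃ s, φ s ∉ p ∧ s * a = 0) :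
    ∃ (s : A) (t : B), φ s ∉ p ∧ t ∉ p ∧ φ s ∣ t ∧
      (∀ (b : B) (n : ℕ), ∃ (a : A) (m k : ℕ), t ^ k * (b * φ s ^ m - φ a * t ^ n) = 0) ∧
      ∀ (a : A) (k : ℕ), t ^ k * φ a = 0 → ∃ m : ℕ, s ^ m * a = 0 := by
  classical
  obtain ⟨s, t, hs, ht, hdvd, hsurj⟩ := exists_surjective_away φ hφ p h
  let K : Ideal A :=
    { carrier := {a | ∃ k : ℕ, t ^ k * φ a = 0}
      zero_mem' := ⟨0, by simp⟩
      add_mem' := by
        rintro a b ⟨k, hk⟩ ⟨l, hl⟩
        exact ⟨k + l, by rw [map_add, pow_add]; linear_combination t ^ l * hk + t ^ k * hl⟩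
      smul_mem' := by
        rintro c a ⟨k, hk⟩
        exact ⟨k, by rw [smul_eq_mul, map_mul]; linear_combination φ c * hk⟩ }
  obtain ⟨G, hG⟩ := (IsNoetherian.noetherian K : K.FG)
  have hg : ∀ g ∈ G, ∃ u, φ u ∉ p ∧ u * g = 0 := fun g hg ↦ by
    obtain ⟨k, hk⟩ : g ∈ K := hG ▸ Ideal.subset_span hg
    exact hinj g ⟨t ^ k, fun hm ↦ ht (‹p.IsPrime›.mem_of_pow_mem k hm), hk⟩
  choose! v hv hv0 using hg
  let u := ∏ g ∈ G, v g
  have hu : φ u ∉ p := fun hm ↦ by
    rw [map_prod, Ideal.IsPrime.prod_mem_iff] at hm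
    obtain ⟨g, hg, hg'⟩ := hm
    exact hv g hg hg'
  have huK : ∀ a ∈ K, u * a = 0 := by
    intro a ha
    rw [← hG] at ha
    induction ha using Submodule.span_induction with
    | mem g hg =>
      obtain ⟨w, hw⟩ : v g ∣ u := Finset.dvd_prod_of_mem v hg
      rw [hw]; linear_combination w * hv0 g hg
    | zero => simp
    | add x y _ _ hx hy => rw [mul_add, hx, hy, add_zero]
    | smul c x _ hx => rw [smul_eq_mul]; linear_combination c * hx
  have hsu : φ (s * u) ∉ p := by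
    rw [map_mul]; exact fun hm ↦ (‹p.IsPrime›.mem_or_mem hm).elim hs hu
  refine ⟨s * u, t * φ u, hsu, fun hm ↦ (‹p.IsPrime›.mem_or_mem hm).elim ht hu,
    by rw [map_mul]; exact mul_dvd_mul_right hdvd _, fun b n ↦ ?_, fun a k hk ↦ ?_⟩
  · obtain ⟨a, m, l, hl⟩ := hsurj b n
    refine ⟨a * s ^ n * u ^ m, m + n, l, ?_⟩
    simp only [map_mul, map_pow]
    linear_combination (φ u ^ (l + m + n) * φ s ^ n) * hl
  · have h1 : u ^ k * a ∈ K := ⟨k, by rw [map_mul, map_pow]; linear_combination hk⟩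
    exact ⟨k + 1, by linear_combination s ^ (k + 1) * huK _ h1⟩

end algebra

section geometry

variable (f : X ⟶ Y) {U : Y.Opens} (hU : IsAffineOpen U) {V : X.Opens} (hV : IsAffineOpen V)
  (e : V ≤ f ⁻¹ᵁ U) (s : Γ(Y, U)) (t : Γ(X, V))

lemma basicOpen_le_of_dvd (hdvd : f.appLE U V e s ∣ t) :
    X.basicOpen t ≤ f ⁻¹ᵁ Y.basicOpen s := by
  obtain ⟨c, rfl⟩ := hdvd
  rw [Scheme.basicOpen_mul]
  refine inf_le_left.trans ?_
  rw [Scheme.Hom.appLE, CommRingCat.comp_apply, Scheme.basicOpen_res, Scheme.preimage_basicOpen]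
  exact inf_le_right

lemma appLE_basicOpen_algebraMap (hle : X.basicOpen t ≤ f ⁻¹ᵁ Y.basicOpen s) (a : Γ(Y, U)) :
    f.appLE (Y.basicOpen s) (X.basicOpen t) hle (algebraMap Γ(Y, U) Γ(Y, Y.basicOpen s) a) =
      algebraMap Γ(X, V) Γ(X, X.basicOpen t) (f.appLE U V e a) := by
  simp only [RingHom.algebraMap_toAlgebra, ← CommRingCat.comp_apply, Scheme.Hom.appLE_map,
    Scheme.Hom.map_appLE]

include hU hV in
lemma appLE_basicOpen_surjective (hle : X.basicOpen t ≤ f ⁻¹ᵁ Y.basicOpen s)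
    (h : ∀ (b : Γ(X, V)) (n : ℕ), ∃ (a : Γ(Y, U)) (m k : ℕ),
      t ^ k * (b * f.appLE U V e s ^ m - f.appLE U V e a * t ^ n) = 0) :
    Function.Surjective (f.appLE (Y.basicOpen s) (X.basicOpen t) hle) := by
  have := hU.isLocalization_basicOpen s
  have := hV.isLocalization_basicOpen t
  intro z
  obtain ⟨⟨b, ⟨_, n, rfl⟩⟩, hz⟩ := IsLocalization.surj (Submonoid.powers t) z
  obtain ⟨a, m, k, hk⟩ := h b n
  have hus : IsUnit (algebraMap Γ(Y, U) Γ(Y, Y.basicOpen s) s ^ m) :=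
    (IsLocalization.Away.algebraMap_isUnit s).pow m
  obtain ⟨w, hw⟩ := hus.exists_right_inv
  refine ⟨algebraMap _ _ a * w, ?_⟩
  set ψ := f.appLE (Y.basicOpen s) (X.basicOpen t) hle
  have h1 : ψ (algebraMap _ _ s) ^ m * ψ w = 1 := by
    rw [← map_pow, ← map_mul, hw, map_one]
  have h2 := congrArg (algebraMap Γ(X, V) Γ(X, X.basicOpen t)) hk
  have hut : IsUnit (algebraMap Γ(X, V) Γ(X, X.basicOpen t) t) :=
    IsLocalization.Away.algebraMap_isUnit t
  rw [map_mul, map_pow, map_zero] at h2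
  have h3 := (hut.pow k).mul_right_eq_zero.mp h2
  simp only [map_sub, map_mul, map_pow, sub_eq_zero] at h3
  simp only [map_pow] at hz
  rw [map_mul]
  rw [appLE_basicOpen_algebraMap f e s t hle] at h1
  rw [appLE_basicOpen_algebraMap f e s t hle]
  apply (hut.pow n).mul_left_injective
  change _ = z * _
  rw [hz]
  linear_combination (-ψ w) * h3 + algebraMap Γ(X, V) Γ(X, X.basicOpen t) b * h1

include hU hV in
lemma appLE_basicOpen_injective (hle : X.basicOpen t ≤ f ⁻¹ᵁ Y.basicOpen s)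
    (h : ∀ (a : Γ(Y, U)) (k : ℕ), t ^ k * f.appLE U V e a = 0 → ∃ m : ℕ, s ^ m * a = 0) :
    Function.Injective (f.appLE (Y.basicOpen s) (X.basicOpen t) hle) := by
  have := hU.isLocalization_basicOpen s
  have := hV.isLocalization_basicOpen t
  rw [injective_iff_map_eq_zero]
  intro z hz
  obtain ⟨⟨a, ⟨_, n, rfl⟩⟩, ha⟩ := IsLocalization.surj (Submonoid.powers s) z
  simp only [map_pow] at ha
  have h1 := congrArg (f.appLE (Y.basicOpen s) (X.basicOpen t) hle) ha
  rw [map_mul, hz, zero_mul, appLE_basicOpen_algebraMap f e s t hle, eq_comm,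
    IsLocalization.map_eq_zero_iff (Submonoid.powers t)] at h1
  obtain ⟨⟨_, k, rfl⟩, hk⟩ := h1
  obtain ⟨m, hm⟩ := h a k hk
  have h2 : algebraMap Γ(Y, U) Γ(Y, Y.basicOpen s) a = 0 :=
    (IsLocalization.map_eq_zero_iff (Submonoid.powers s) _ a).mpr ⟨⟨_, m, rfl⟩, hm⟩
  rw [h2] at ha
  exact ((IsLocalization.Away.algebraMap_isUnit s).pow n).mul_left_eq_zero.mp ha

end geometry

lemma resLE_appTop_bijective_or_surjective (f : X ⟶ Y) {U : Y.Opens} {V : X.Opens}
    (e : V ≤ f ⁻¹ᵁ U) :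
    (Function.Surjective (f.appLE U V e) → Function.Surjective (f.resLE U V e).appTop) ∧
    (Function.Bijective (f.appLE U V e) → Function.Bijective (f.resLE U V e).appTop) := by
  have h1 := ConcreteCategory.bijective_of_isIso U.topIso.hom
  have h2 := ConcreteCategory.bijective_of_isIso V.topIso.inv
  have he : (f.resLE U V e).appTop = U.topIso.hom ≫ f.appLE U V e ≫ V.topIso.inv :=
    Scheme.Hom.resLE_app_top f (e := e)
  rw [he]
  simp only [CommRingCat.hom_comp, RingHom.coe_comp]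
  exact ⟨fun h ↦ h2.2.comp (h.comp h1.2), fun h ↦ h2.comp (h.comp h1)⟩

lemma stalk_data (f : X ⟶ Y) {U : Y.Opens} (hU : IsAffineOpen U) {V : X.Opens}
    (hV : IsAffineOpen V) (e : V ≤ f ⁻¹ᵁ U) (x : X) (hx : x ∈ V) :
    (Function.Surjective (f.stalkMap x) → ∀ a : Γ(X, V), ∃ b s,
      f.appLE U V e s ∉ (hV.primeIdealOf ⟨x, hx⟩).asIdeal ∧
      ∃ t, t ∉ (hV.primeIdealOf ⟨x, hx⟩).asIdeal ∧
        t * (f.appLE U V e s * a - f.appLE U V e b) = 0) ∧
    (Function.Injective (f.stalkMap x) → ∀ a : Γ(Y, U),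
      (∃ t ∉ (hV.primeIdealOf ⟨x, hx⟩).asIdeal, t * f.appLE U V e a = 0) →
      ∃ s, f.appLE U V e s ∉ (hV.primeIdealOf ⟨x, hx⟩).asIdeal ∧ s * a = 0) := by
  set p := (hV.primeIdealOf ⟨x, hx⟩).asIdeal
  set q := (hU.primeIdealOf ⟨f x, e hx⟩).asIdeal
  have hq : ∀ s, f.appLE U V e s ∈ p ↔ s ∈ q := fun s ↦ by
    have := congrArg PrimeSpectrum.asIdeal (IsAffineOpen.comap_primeIdealOf_appLE U hU V hV e hx)
    exact SetLike.ext_iff.mp this s
  let := X.presheaf.algebra_section_stalk ⟨x, hx⟩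
  let := Y.presheaf.algebra_section_stalk ⟨f x, e hx⟩
  have := hV.isLocalization_stalk ⟨x, hx⟩
  have := hU.isLocalization_stalk ⟨f x, e hx⟩
  have hnat : ∀ a : Γ(Y, U), f.stalkMap x (algebraMap Γ(Y, U) (Y.presheaf.stalk (f x)) a) =
      algebraMap Γ(X, V) (X.presheaf.stalk x) (f.appLE U V e a) := by
    intro a
    simp only [RingHom.algebraMap_toAlgebra, Scheme.Hom.appLE, CommRingCat.comp_apply,
      TopCat.Presheaf.germ_res_apply]
    exact Scheme.Hom.germ_stalkMap_apply f U x (e hx) a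
  constructor
  · intro hs a
    obtain ⟨c, hc⟩ := hs (algebraMap Γ(X, V) (X.presheaf.stalk x) a)
    obtain ⟨⟨b, s⟩, hbs⟩ := IsLocalization.surj q.primeCompl c
    have h1 := congrArg (f.stalkMap x) hbs
    rw [map_mul, hc, hnat, hnat, ← map_mul, mul_comm] at h1
    obtain ⟨⟨t, ht⟩, htt⟩ := (IsLocalization.eq_iff_exists p.primeCompl _).mp h1
    exact ⟨b, s, fun hm ↦ s.2 ((hq _).mp hm), t, ht, by linear_combination htt⟩
  · rintro hi a ⟨t, ht, hta⟩
    have h1 : algebraMap Γ(X, V) (X.presheaf.stalk x) (f.appLE U V e a) = 0 :=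
      (IsLocalization.map_eq_zero_iff p.primeCompl _ _).mpr ⟨⟨t, ht⟩, hta⟩
    rw [← hnat, map_eq_zero_iff _ hi, IsLocalization.map_eq_zero_iff q.primeCompl] at h1
    obtain ⟨⟨s, hs⟩, hsa⟩ := h1
    exact ⟨s, fun hm ↦ hs ((hq _).mp hm), hsa⟩

lemma mem_basicOpen_of_not_mem {V : X.Opens} (hV : IsAffineOpen V) {x : X} (hx : x ∈ V)
    {t : Γ(X, V)} (ht : t ∉ (hV.primeIdealOf ⟨x, hx⟩).asIdeal) : x ∈ X.basicOpen t := by
  rw [X.mem_basicOpen t x hx]
  let := X.presheaf.algebra_section_stalk ⟨x, hx⟩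
  have := hV.isLocalization_stalk ⟨x, hx⟩
  exact IsLocalization.map_units (X.presheaf.stalk x)
    (⟨t, ht⟩ : (hV.primeIdealOf ⟨x, hx⟩).asIdeal.primeCompl)

theorem isLocalImmersionAt_iff_surjective (f : X ⟶ Y) [LocallyOfFiniteType f] (x : X) :
    _root_.SchLoc.IsLocalImmersionAt f x ↔ Function.Surjective (f.stalkMap x) := by
  constructor
  · rw [isLocalImmersionAt_iff]
    rintro ⟨U, hx, hU⟩
    let x' : (U : Scheme.{u}) := ⟨x, hx⟩
    have h := (U.ι ≫ f).stalkMap_surjective x'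
    rw [Scheme.Hom.stalkMap_comp U.ι f x'] at h
    have hb := ConcreteCategory.bijective_of_isIso (U.ι.stalkMap x')
    intro c
    obtain ⟨d, hd⟩ := h (U.ι.stalkMap x' c)
    exact ⟨d, hb.1 hd⟩
  · intro hs
    obtain ⟨_, ⟨(U : Y.Opens), hU, rfl⟩, hxU, -⟩ :=
      Y.isBasis_affineOpens.exists_subset_of_mem_open (Set.mem_univ (f x)) isOpen_univ
    obtain ⟨_, ⟨(V : X.Opens), hV, rfl⟩, hxV, hVU⟩ :=
      X.isBasis_affineOpens.exists_subset_of_mem_open (show x ∈ f ⁻¹ᵁ U from hxU) (f ⁻¹ᵁ U).isOpen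
    have hft := f.finiteType_appLE hU hV hVU
    obtain ⟨s, t, hs', ht, hdvd, hsurj⟩ := exists_surjective_away _ hft
      (hV.primeIdealOf ⟨x, hxV⟩).asIdeal ((stalk_data f hU hV hVU x hxV).1 hs)
    have hle := basicOpen_le_of_dvd f hVU s t hdvd
    refine ⟨X.basicOpen t, Y.basicOpen s, hle, mem_basicOpen_of_not_mem hV hxV ht, ?_⟩
    have : IsAffine (X.basicOpen t : Scheme.{u}) := hV.basicOpen t
    have : IsAffine (Y.basicOpen s : Scheme.{u}) := hU.basicOpen s
    exact IsClosedImmersion.of_surjective_of_isAffine _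
      ((resLE_appTop_bijective_or_surjective f hle).1
        (appLE_basicOpen_surjective f hU hV hVU s t hle hsurj))

theorem isLocalIsoAt_iff_isIso (f : X ⟶ Y) [IsLocallyNoetherian Y] [LocallyOfFiniteType f]
    (x : X) : _root_.SchLoc.IsLocalIsoAt f x ↔ IsIso (f.stalkMap x) := by
  constructor
  · rintro ⟨U, hx, hU⟩
    let x' : (U : Scheme.{u}) := ⟨x, hx⟩
    have : IsIso ((U.ι ≫ f).stalkMap x') := inferInstance
    rw [Scheme.Hom.stalkMap_comp U.ι f x'] at this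
    have hι : IsIso (U.ι.stalkMap x') := inferInstance
    exact @IsIso.of_isIso_comp_right _ _ _ _ _ (f.stalkMap x) (U.ι.stalkMap x') hι this
  · intro hiso
    have hb := ConcreteCategory.bijective_of_isIso (f.stalkMap x)
    obtain ⟨_, ⟨(U : Y.Opens), hU, rfl⟩, hxU, -⟩ :=
      Y.isBasis_affineOpens.exists_subset_of_mem_open (Set.mem_univ (f x)) isOpen_univ
    obtain ⟨_, ⟨(V : X.Opens), hV, rfl⟩, hxV, hVU⟩ :=
      X.isBasis_affineOpens.exists_subset_of_mem_open (show x ∈ f ⁻¹ᵁ U from hxU) (f ⁻¹ᵁ U).isOpen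
    have hft := f.finiteType_appLE hU hV hVU
    have : IsNoetherianRing Γ(Y, U) := IsLocallyNoetherian.component_noetherian ⟨U, hU⟩
    obtain ⟨s, t, hs', ht, hdvd, hsurj, hinj⟩ := exists_bijective_away _ hft
      (hV.primeIdealOf ⟨x, hxV⟩).asIdeal ((stalk_data f hU hV hVU x hxV).1 hb.2)
      ((stalk_data f hU hV hVU x hxV).2 hb.1)
    have hle := basicOpen_le_of_dvd f hVU s t hdvd
    refine ⟨X.basicOpen t, mem_basicOpen_of_not_mem hV hxV ht, ?_⟩
    have : IsAffine (X.basicOpen t : Scheme.{u}) := hV.basicOpen t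
    have : IsAffine (Y.basicOpen s : Scheme.{u}) := hU.basicOpen s
    have hbij := (resLE_appTop_bijective_or_surjective f hle).2
      ⟨appLE_basicOpen_injective f hU hV hVU s t hle hinj,
       appLE_basicOpen_surjective f hU hV hVU s t hle hsurj⟩
    have : IsIso (f.resLE _ _ hle) :=
      (HasAffineProperty.iff_of_isAffine (P := MorphismProperty.isomorphisms Scheme.{u})).mpr
        ⟨inferInstance, (ConcreteCategory.isIso_iff_bijective _).mpr hbij⟩
    rw [← Scheme.Hom.resLE_comp_ι f (e := hle)]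
    infer_instance

end Groth.Agent.SchLoc
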